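import Cfsg.Agent.H297.SK.Opp
import Cfsg.Agent.KFacts.F4Aut
import Cfsg.Agent.H81.FFourConj
import Cfsg.Agent.S2179

/-!
# S3010 (Sidki pairs): `F₄(q)`, `q` even (helper297)

`good_F4` : every involution of `F₄(q)`, `q` even, is good.
-/

set_option autoImplicit false
set_option Elab.async false
set_option linter.unusedSectionVars false

namespace Cfsg.Agent.H297.SK.FFour

open CoxeterSystem Cfsg.Agent.ChevalleyStructure.CoxeterGeom Cfsg.Agent.Tits.Roots Cfsg.Agent.Tits.Core
open Cfsg.Lie Cfsg.Agent.ChevalleyStructure Cfsg.Agent.ChevalleyStructure.Elts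
  Cfsg.Agent.ChevalleyStructure.RootVec Cfsg.Agent.ChevalleyStructure.CoxeterGeomTypes
open Cfsg.Agent.Nodes Cfsg.Agent.Nodes.Reps Cfsg.Agent.Nodes.BNOf Cfsg.Agent.Nodes.RGDChev Cfsg.Agent.Nodes.Coroot
  Cfsg.Agent.Nodes.KindF Cfsg.Agent.Nodes.Bruhat Cfsg.Agent.Nodes.OppDec Cfsg.Agent.Nodes.LeviDec
  Cfsg.Agent.Nodes.StabComb Cfsg.Agent.KFacts.ChevTwo Cfsg.Agent.KFacts.ChevTwoTab
  Cfsg.Agent.KFacts.ChevTwoInst Cfsg.Agent.KFacts.RgdTI
  Cfsg.Agent.KFacts.F4Star Cfsg.Agent.KFacts.F4Cent Cfsg.Agent.KFacts.F4Pair Cfsg.Agent.KFacts.F4Torus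
  Cfsg.Agent.KFacts.F4Perf Cfsg.Agent.KFacts.F4Aut
open Cfsg.Agent.H282.SK

universe u

/-! ### An element over `w` acting without signs -/

section Sys

variable {I W Y K : Type*} [Fintype I] [DecidableEq I] [Group W] [Group Y] [Field K] {M : CoxeterMatrix I}
  {cs : CoxeterSystem M W} {A : I → I → ℤ} {h : IsCartan M A} {p : ℕ} {T : Subgroup Y} {n : I → Y}
  {X : (I → ℤ) → Subgroup Y} {e : (I → ℤ) → K → Y}

theorem exists_rp_rep {R : RGD cs h p T n X} (S : Sys R e) (w : W) : ∃ m : Y, Rp cs R.nsys w m ∧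
    ∀ x, IsRoot cs h x → ∀ t, m * e x t * m⁻¹ = e (rep cs h w x) t := by
  obtain ⟨ω, rfl⟩ := cs.wordProd_surjective w
  induction ω with
  | nil =>
    refine ⟨1, ?_, fun x hx t => ?_⟩
    · rw [wordProd_nil]; exact rp_one
    · rw [wordProd_nil, map_one, Module.End.one_apply, one_mul, inv_one, mul_one]
  | cons i ω ih =>
    obtain ⟨m, hm, ih⟩ := ih
    refine ⟨n i * m, ?_, fun x hx t => ?_⟩
    · rw [wordProd_cons]
      exact (rp_simple cs R.nsys i).mul hm
    · rw [wordProd_cons, rep_mul_apply, ← S.data.refl i _ (hx.act _), ← ih x hx t, ← S.n_eq]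
      group

end Sys

/-! ### The longest element -/

variable {W : Type*} [Group W] (cs : CoxeterSystem CoxeterMatrix.F₄ W)

theorem reflect_lt48 : ∀ i : Fin 4, ∀ r < 48, chevF4.reflectRoot i r < 48 := by
  intro i r hr
  have := NPerm.reflectRoot_lt isType.inList (lt_rank isType i) (s := r) (by rw [nroots]; exact hr)
  rwa [nroots] at this

/-- the action of a word on the indices -/
def act (ω : List (Fin 4)) (r : ℕ) : ℕ := ω.foldr (fun i r => chevF4.reflectRoot (i : ℕ) r) r

theorem act_lt (ω : List (Fin 4)) {r : ℕ} (hr : r < 48) : act ω r < 48 := by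
  induction ω with
  | nil => exact hr
  | cons i ω ih => exact reflect_lt48 i _ ih

theorem rep_word (ω : List (Fin 4)) {r : ℕ} (hr : r < 48) :
    rep cs isType.isCartan (cs.wordProd ω) (v r) = v (act ω r) := by
  induction ω with
  | nil => rw [wordProd_nil, map_one, Module.End.one_apply]; rfl
  | cons i ω ih =>
    rw [wordProd_cons, rep_mul_apply, ih, rep_vec isType cs i (by rw [nroots]; exact act_lt ω hr)]
    rfl

/-- the longest word -/
def lw : List (Fin 4) := [3, 2, 1, 2, 0, 1, 2, 3, 2, 1, 2, 0, 1, 2, 3, 2, 1, 2, 0, 1, 2, 0, 1, 0]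

theorem act_lw : ((List.range 48).all fun r => Nat.beq (act lw r) (47 - r)) = true := by decide +kernel

theorem rep_lw {x : Fin 4 → ℤ} (hx : IsRoot cs isType.isCartan x) :
    rep cs isType.isCartan (cs.wordProd lw) x = -x := by
  obtain ⟨r, hr, rfl⟩ := exists_v cs hx
  rw [rep_word cs lw hr, Nat.eq_of_beq_eq_true (List.all_eq_true.1 act_lw r (List.mem_range.2 hr)), v_neg hr]

/-! ### The representatives -/

variable (K : Type u) [Field K]

/-- the product of the root elements of a list -/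
noncomputable def el (L : List ℕ) : ↥(chevF4.group K) := (L.map fun a => eF K (v a) 1).prod

theorem coe_eF {a : ℕ} (ha : a < 48) (t : K) : ((eF K (v a) t : ↥(chevF4.group K)) : GL chevF4.Idx K) =
    xG isType.inList a t := by
  rw [coe_eg, ev_vec isType (by rw [nroots]; exact ha)]

theorem coe_el {L : List ℕ} (hL : ∀ a ∈ L, a < 48) : ((el K L : ↥(chevF4.group K)) : GL chevF4.Idx K) =
    H81.FFourCode.wG K L := by
  induction L with
  | nil => rfl
  | cons a L ih =>
    have e1 : el K (a :: L) = eF K (v a) 1 * el K L := by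
      unfold el; rw [List.map_cons, List.prod_cons]
    rw [e1, H81.FFourCode.wG_cons, Subgroup.coe_mul, ih fun b hb => hL b (List.mem_cons_of_mem _ hb),
      coe_eF K (hL a List.mem_cons_self)]

variable {K}

theorem el_append (L L' : List ℕ) : el K (L ++ L') = el K L * el K L' := by
  unfold el; rw [List.map_append, List.prod_append]

theorem el_flatten (L : List ℕ) (k : ℕ) : el K (List.replicate k L).flatten = el K L ^ k := by
  induction k with
  | zero => rfl
  | succ k ih => rw [List.replicate_succ, List.flatten_cons, el_append, ih, pow_succ']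

theorem el_eq_one [CharP K 2] {L : List ℕ} (hL : H81.FFourCode.okW L = true)
    (hc : Nat.beq (H81.FFourCode.wc L TwF4.Bits.idN) TwF4.Bits.idN = true) : el K L = 1 := by
  apply Subtype.ext
  have hL' : ∀ a ∈ L, a < 48 := by
    intro a ha
    have := List.all_eq_true.1 hL a ha
    rwa [Nat.blt_eq] at this
  rw [coe_el K hL', H81.FFourCode.eq_of_code hL (b := []) rfl (by rw [H81.FFourCode.wc_nil]; exact hc)]
  rfl

theorem conj_el {m : ↥(chevF4.group K)}
    (hm : ∀ x, IsRoot cs isType.isCartan x → ∀ t, m * eF K x t * m⁻¹ = eF K (-x) t) {L : List ℕ}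
    (hL : ∀ a ∈ L, a < 48) : m⁻¹ * el K L * m = el K (L.map fun a => 47 - a) := by
  induction L with
  | nil => show m⁻¹ * 1 * m = 1; group
  | cons a L ih =>
    have e1 : ∀ (a : ℕ) (L : List ℕ), el K (a :: L) = eF K (v a) 1 * el K L := by
      intro a L; unfold el; rw [List.map_cons, List.prod_cons]
    have ha := hL a List.mem_cons_self
    have h1 := hm (-v a) (isRoot_v cs ha).neg 1
    rw [_root_.neg_neg] at h1
    have h2 : m⁻¹ * eF K (v a) 1 * m = eF K (-v a) 1 := by rw [← h1]; group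
    rw [e1, List.map_cons, e1, ← ih fun b hb => hL b (List.mem_cons_of_mem _ hb), v_neg ha, ← h2]
    group

/-- the coordinates outside `J` vanish -/
def inJ (J : List ℕ) (s : ℕ) : Bool := (List.range 4).all fun k => J.contains k || decide (rt chevF4 s k = 0)

/-- the subset of the nodes -/
def JS (J : List ℕ) : Set (Fin 4) := {k | (k : ℕ) ∈ J}

theorem mem_RootsJ {J : List ℕ} {s : ℕ} (hs : s < 48) :
    v s ∈ RootsJ cs isType.isCartan (JS J) ↔ inJ J s = true := by
  unfold inJ
  rw [List.all_eq_true]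
  constructor
  · rintro ⟨-, h1⟩ k hk
    rw [Bool.or_eq_true, decide_eq_true_iff]
    by_cases h2 : k ∈ J
    · left; rw [List.contains_iff_mem]; exact h2
    · right
      exact h1 ⟨k, List.mem_range.1 hk⟩ h2
  · intro h1
    refine ⟨isRoot_v cs hs, fun k hk => ?_⟩
    have h2 := h1 k (List.mem_range.2 k.2)
    rw [Bool.or_eq_true, decide_eq_true_iff, List.contains_iff_mem] at h2
    exact h2.resolve_left hk

section

variable [Finite K] [CharP K 2]

theorem XF_le_PJ {J : List ℕ} {s : ℕ} (hs : s < 48) (hJ : 24 ≤ s ∨ inJ J s = true) :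
    XF K (v s) ≤ PJ cs isType.isCartan (TF K) (XF K) (JS J) := by
  rcases hJ with h1 | h1
  · exact le_trans (RGD.le_Sup ((mem_pos_iff cs hs).2 h1)) (le_trans RGD.U_le_B B_le_PJ)
  · exact le_trans (X_le_LJ ((mem_RootsJ cs hs).2 h1)) LJ_le_PJ

theorem XS_le {J : List ℕ} {M : List ℕ} (hM : (M.all fun s => Nat.blt s 48 && (Nat.ble 24 s || inJ J s)) = true)
    {g : ↥(chevF4.group K)} (hg : (g : GL chevF4.Idx K) ∈ H82.Cent2.XS K chevF4 M) :
    g ∈ PJ cs isType.isCartan (TF K) (XF K) (JS J) := by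
  have h1 : H82.Cent2.XS K chevF4 M ≤ (PJ cs isType.isCartan (TF K) (XF K) (JS J)).map
      (chevF4.group K).subtype := by
    rw [H82.Cent2.XS_le_iff isType.inList]
    intro s hs c
    have h2 := List.all_eq_true.1 hM s hs
    rw [Bool.and_eq_true, Bool.or_eq_true, Nat.blt_eq, Nat.ble_eq] at h2
    refine ⟨eF K (v s) c, XF_le_PJ cs h2.1 h2.2 ?_, coe_eF K h2.1 c⟩
    exact (mem_XF_iff cs (isRoot_v cs h2.1)).2 ⟨c, rfl⟩
  obtain ⟨g', hg', e⟩ := h1 hg
  have : g' = g := Subtype.ext e
  rw [← this]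
  exact hg'

/-- the check of orthogonality of the roots of `J` to the roots of `L` -/
def orth (J L : List ℕ) : Bool := (List.range 48).all fun s => !(inJ J s) || L.all fun a => (nn a).testBit s

theorem comm_el {J L : List ℕ} (hL : (L.all fun a => Nat.blt a 48) = true) (ho : orth J L = true)
    {x : Fin 4 → ℤ} (hx : x ∈ RootsJ cs isType.isCartan (JS J)) {g : ↥(chevF4.group K)} (hg : g ∈ XF K x) :
    g * el K L = el K L * g := by
  have hW : Finite W := finite_W isType cs
  obtain ⟨s, hs, rfl⟩ := exists_v cs hx.1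
  have hx' := (mem_RootsJ cs hs).1 hx
  have h1 := List.all_eq_true.1 ho s (List.mem_range.2 hs)
  rw [hx', Bool.not_true, Bool.false_or, List.all_eq_true] at h1
  obtain ⟨t, rfl⟩ := (mem_XF_iff cs hx.1).1 hg
  clear ho
  induction L with
  | nil => show _ * 1 = 1 * _; rw [mul_one, one_mul]
  | cons a L ih =>
    have e1 : el K (a :: L) = eF K (v a) 1 * el K L := by
      unfold el; rw [List.map_cons, List.prod_cons]
    rw [List.all_cons, Bool.and_eq_true, Nat.blt_eq] at hL
    have h2 := (testBit_nn cs hL.1 hs).1 (h1 a List.mem_cons_self)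
    have h3 := (sysF (K := K) cs).data.comm_of_nonneg (isRoot_v cs hs) (isRoot_v cs hL.1) h2 t 1
    have h4 := ih hL.2 fun b hb => h1 b (List.mem_cons_of_mem _ hb)
    rw [e1, ← mul_assoc, h3, mul_assoc, h4, mul_assoc]

/-- **The general form.** -/
theorem good_el {J L : List ℕ} {k : ℕ} {a : ℕ} (hk : Odd k)
    (hL : (L.all fun a => Nat.blt a 48) = true) (ho : orth J L = true)
    (h2 : Nat.beq (H81.FFourCode.wc (L ++ L) TwF4.Bits.idN) TwF4.Bits.idN = true)
    (hc : Nat.beq (H81.FFourCode.wc (List.replicate k (L ++ L.map fun a => 47 - a)).flatten TwF4.Bits.idN)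
      TwF4.Bits.idN = true)
    (ha : a < 48) (haJ : inJ J a = true)
    (hCv : ∀ g : ↥(chevF4.group K), g * el K L = el K L * g →
      g ∈ PJ cs isType.isCartan (TF K) (XF K) (JS J)) : Good (el K L) := by
  have hW : Finite W := finite_W isType cs
  have hL' : ∀ a ∈ L, a < 48 := by
    intro a ha
    have := List.all_eq_true.1 hL a ha
    rwa [Nat.blt_eq] at this
  have okL : H81.FFourCode.okW L = true := hL
  have okL' : H81.FFourCode.okW (L.map fun a => 47 - a) = true := by
    unfold H81.FFourCode.okW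
    rw [List.all_eq_true]
    intro b hb
    obtain ⟨a, -, rfl⟩ := List.mem_map.1 hb
    rw [Nat.blt_eq]; omega
  obtain ⟨m, hm, hmx⟩ := exists_rp_rep (sysF (K := K) cs) (cs.wordProd lw)
  have hmx' : ∀ x, IsRoot cs isType.isCartan x → ∀ t, m * eF K x t * m⁻¹ = eF K (-x) t := by
    intro x hx t
    rw [hmx x hx t, rep_lw cs hx]
  refine Opp.good_opp (rgd (K := K) isType cs 2) (GG_top cs) (J := JS J) hm ?_ ?_ ?_ hk ?_ hCv ?_ ?_
  · intro x hx h0
    rw [rep_lw cs hx]
    exact neg_nonpos.2 h0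
  · intro x hx
    rw [rep_lw cs hx.1]
    exact RootsJ.neg hx
  · rw [← el_append]
    refine el_eq_one ?_ h2
    unfold H81.FFourCode.okW at *
    rw [List.all_append, okL]; rfl
  · rw [conj_el cs hmx' hL', ← el_append, ← el_flatten]
    refine el_eq_one ?_ hc
    have : H81.FFourCode.okW (L ++ L.map fun a => 47 - a) = true := by
      unfold H81.FFourCode.okW at *
      rw [List.all_append, okL, okL']; rfl
    unfold H81.FFourCode.okW at *
    rw [List.all_eq_true] at this ⊢
    intro b hb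
    rw [List.mem_flatten] at hb
    obtain ⟨l, hl, hb⟩ := hb
    rw [List.eq_of_mem_replicate hl] at hb
    exact this b hb
  · intro x hx g hg
    exact comm_el cs hL ho hx hg
  · intro α hα
    obtain ⟨g, -, hg⟩ := inner_of_fix_X cs (isRoot_v cs ha) (α := α) (hα _ ((mem_RootsJ cs ha).2 haJ))
    exact ⟨g, hg⟩

theorem eF_mem {a : ℕ} (ha : a < 48) : eF K (v a) 1 ∈ XF K (v a) ∧ eF K (v a) 1 ≠ 1 := by
  refine ⟨(mem_XF_iff CoxeterMatrix.F₄.toCoxeterSystem (isRoot_v _ ha)).2 ⟨1, rfl⟩, fun h1 => ?_⟩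
  exact one_ne_zero ((sysF (K := K) CoxeterMatrix.F₄.toCoxeterSystem).data.inj _ (isRoot_v _ ha) 1 h1)

/-- centralisers of root elements -/
theorem cent_root {J : List ℕ} {a : ℕ} (ha : a < 48)
    (hc : ((List.range 48).all fun s => !((nn a).testBit s) || (Nat.ble 24 s || inJ J s)) = true)
    {g : ↥(chevF4.group K)} (hg : g * el K [a] = el K [a] * g) :
    g ∈ PJ cs isType.isCartan (TF K) (XF K) (JS J) := by
  have e1 : el K [a] = eF K (v a) 1 := by unfold el; simp
  rw [e1] at hg
  obtain ⟨h1, h2⟩ := eF_mem (K := K) ha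
  have h3 := cent_X cs (isRoot_v cs ha) h1 h2 hg
  have h4 : PF cs K (v a) ≤ PJ cs isType.isCartan (TF K) (XF K) (JS J) := by
    refine RGD.Sup_le fun x hx => ?_
    obtain ⟨s, hs, rfl⟩ := exists_v cs hx.1
    have h5 := List.all_eq_true.1 hc s (List.mem_range.2 hs)
    rw [(testBit_nn cs ha hs).2 hx.2, Bool.not_true, Bool.false_or, Bool.or_eq_true, Nat.ble_eq] at h5
    exact XF_le_PJ cs hs h5
  exact h4 h3

theorem ok47 : orth [0, 1, 2] [47] = true ∧
    ((List.range 48).all fun s => !((nn 47).testBit s) || (Nat.ble 24 s || inJ [0, 1, 2] s)) = true ∧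
    Nat.beq (H81.FFourCode.wc ([47] ++ [47]) TwF4.Bits.idN) TwF4.Bits.idN = true ∧
    Nat.beq (H81.FFourCode.wc (List.replicate 3 ([47] ++ [47].map fun a => 47 - a)).flatten TwF4.Bits.idN)
      TwF4.Bits.idN = true ∧ inJ [0, 1, 2] 33 = true := by decide +kernel

theorem ok44 : orth [1, 2, 3] [44] = true ∧
    ((List.range 48).all fun s => !((nn 44).testBit s) || (Nat.ble 24 s || inJ [1, 2, 3] s)) = true ∧
    Nat.beq (H81.FFourCode.wc ([44] ++ [44]) TwF4.Bits.idN) TwF4.Bits.idN = true ∧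
    Nat.beq (H81.FFourCode.wc (List.replicate 3 ([44] ++ [44].map fun a => 47 - a)).flatten TwF4.Bits.idN)
      TwF4.Bits.idN = true ∧ inJ [1, 2, 3] 27 = true := by decide +kernel

theorem okw : orth [1, 2] [47, 44] = true ∧
    (S2179.M1.all fun s => Nat.blt s 48 && (Nat.ble 24 s || inJ [1, 2] s)) = true ∧
    Nat.beq (H81.FFourCode.wc ([47, 44] ++ [47, 44]) TwF4.Bits.idN) TwF4.Bits.idN = true ∧
    Nat.beq (H81.FFourCode.wc (List.replicate 5 ([47, 44] ++ [47, 44].map fun a => 47 - a)).flatten TwF4.Bits.idN)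
      TwF4.Bits.idN = true ∧ inJ [1, 2] 27 = true := by decide +kernel

theorem okv : orth [0, 3] [39, 45] = true ∧
    (S2179.M2.all fun s => Nat.blt s 48 && (Nat.ble 24 s || inJ [0, 3] s)) = true ∧
    Nat.beq (H81.FFourCode.wc ([39, 45] ++ [39, 45]) TwF4.Bits.idN) TwF4.Bits.idN = true ∧
    Nat.beq (H81.FFourCode.wc (List.replicate 3 ([39, 45] ++ [39, 45].map fun a => 47 - a)).flatten TwF4.Bits.idN)
      TwF4.Bits.idN = true ∧ inJ [0, 3] 33 = true := by decide +kernel

theorem tA_eq (L : List ℕ) : H82.Cent2.tA K isType.inList L = H81.FFourCode.wG K L := by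
  induction L with
  | nil => rfl
  | cons a L ih =>
    rw [H81.FFourCode.wG_cons, ← ih]
    unfold H82.Cent2.tA
    rw [H82.Cent2.PA_cons]

/-- centralisers from `H82.Cent2.cent` -/
theorem mem_XS {L M : List ℕ} (hL : ∀ a ∈ L, a < 48)
    (hcent : chevF4.group K ⊓ Subgroup.centralizer {H82.Cent2.tA K isType.inList L} = H82.Cent2.XS K chevF4 M)
    {g : ↥(chevF4.group K)} (hg : g * el K L = el K L * g) : (g : GL chevF4.Idx K) ∈ H82.Cent2.XS K chevF4 M := by
  rw [← hcent]
  refine Subgroup.mem_inf.2 ⟨g.2, ?_⟩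
  rw [Subgroup.mem_centralizer_singleton_iff, tA_eq, ← coe_el K hL]
  exact congrArg Subtype.val hg

end

/-- **Every involution of `F₄(q)`, `q` even, is good.** -/
theorem good_F4 {K : Type u} [Field K] [Finite K] [CharP K 2] (y : ↥(chevF4.group K)) (hy1 : y ≠ 1)
    (hy2 : y * y = 1) : Good y := by
  obtain ⟨z, hz, b, hb, e⟩ := H81.FFourConj.exists_rep (t := (y : GL chevF4.Idx K)) y.2
    (congrArg Subtype.val hy2) (fun h => hy1 (Subtype.ext h))
  have hb48 : ∀ a ∈ b, a < 48 := by
    have h : ∀ b ∈ H81.FFourFus.reps, ∀ a ∈ b, a < 48 := by decide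
    exact h b hb
  have h1 : Good (el K b) := by
    have cs := CoxeterMatrix.F₄.toCoxeterSystem
    have hb' : b = [47] ∨ b = [44] ∨ b = [47, 44] ∨ b = [39, 45] := by
      simpa [H81.FFourFus.reps] using hb
    rcases hb' with rfl | rfl | rfl | rfl
    · obtain ⟨h1, h2, h3, h4, h5⟩ := ok47
      exact good_el cs (by decide) (by decide) h1 h3 h4 (by norm_num) h5
        fun g hg => cent_root cs (by norm_num) h2 hg
    · obtain ⟨h1, h2, h3, h4, h5⟩ := ok44
      exact good_el cs (by decide) (by decide) h1 h3 h4 (by norm_num) h5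
        fun g hg => cent_root cs (by norm_num) h2 hg
    · obtain ⟨h1, h2, h3, h4, h5⟩ := okw
      exact good_el cs (by decide) (by decide) h1 h3 h4 (by norm_num) h5
        fun g hg => XS_le cs h2 (mem_XS hb48 (H82.Cent2.cent isType.inList S2179.dat1) hg)
    · obtain ⟨h1, h2, h3, h4, h5⟩ := okv
      exact good_el cs (by decide) (by decide) h1 h3 h4 (by norm_num) h5
        fun g hg => XS_le cs h2 (mem_XS hb48 (H82.Cent2.cent isType.inList S2179.dat2) hg)
  refine h1.of_isConj (IsConj.symm (isConj_iff.2 ⟨⟨z, hz⟩, Subtype.ext ?_⟩))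
  rw [coe_el K hb48, ← e]
  rfl

end Cfsg.Agent.H297.SK.FFour
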