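import Cfsg.Agent.H297.SK.FFour
import Cfsg.Agent.H282.SK.Out
import Cfsg.Agent.H731.SK.Rows

/-!
# S3010 (Sidki pairs): the row `F₄(q)`, `q` even (helper297)
-/

set_option autoImplicit false

universe u

open Subgroup Cfsg Cfsg.Agent.H282.SK

namespace Cfsg.Agent.H297.SK

/-- **The row `F₄(q)`, `q` even.** -/
theorem f4 : DeadS.{u} fun K _ => H731.SK.FFourEven K := by
  intro G _ _ V K h he
  obtain ⟨F, _, _, _, he⟩ := he
  exact dead_of_good (fun y h1 h2 => FFour.good_F4 y h1 h2) (outLe_chev Lie.chevF4 (by simp)) V K h he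

end Cfsg.Agent.H297.SK
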