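import Cfsg.Agent.H282.SK.Out
import Cfsg.Agent.H731.SK.Rows
import Cfsg.Agent.S2184
import Cfsg.Agent.S2128

/-!
# S3010 (Sidki pairs): `²F₄(q)`, `q ≥ 8` (helper297)

The opposite trick for a group `G` of type `²F₄` (`S : Full σ G`): both classes of involutions are good.
-/

set_option autoImplicit false
set_option linter.unusedSectionVars false

universe u

namespace Cfsg.Agent.H297.SK.TwFFour

open Cfsg.Agent.SplitTwo Cfsg.Agent.SplitTwo.ZS Cfsg.Agent.TitsThree.RankTwoZ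
open Cfsg.Agent.KFacts.TwF4 Cfsg.Agent.KFacts.TwF4.Arc Cfsg.Agent.KFacts.TwF4.Inv
open Cfsg.Agent.H282.SK

/-- the closure argument -/
theorem le_sylow_of {Y : Type*} [Group Y] [Finite Y] {p : ℕ} [Fact p.Prime] (P : Sylow p Y) {A B N : Subgroup Y}
    (hA : IsPGroup p A) (hB : IsPGroup p B) (hN : IsPGroup p N) (hP : (P : Subgroup Y) ≤ A ⊔ B)
    (hNA : ∀ g ∈ N, ∀ z ∈ A, g * z * g⁻¹ ∈ A) (hBA : ∀ g ∈ B, ∀ z ∈ A, g * z * g⁻¹ ∈ A)
    (hBN : ∀ g ∈ B, ∀ z ∈ N, g * z * g⁻¹ ∈ N) : N ≤ P := by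
  have hnorm : ∀ {H M : Subgroup Y}, (∀ g ∈ H, ∀ z ∈ M, g * z * g⁻¹ ∈ M) →
      H ≤ Subgroup.normalizer (M : Set Y) := by
    intro H M hn g hg
    rw [Subgroup.mem_normalizer_iff]
    intro z
    refine ⟨fun hz => hn g hg z hz, fun hz => ?_⟩
    have h1 := hn g⁻¹ (inv_mem hg) _ hz
    have h2 : g⁻¹ * (g * z * g⁻¹) * g⁻¹⁻¹ = z := by group
    rwa [h2] at h1
  have h1 : IsPGroup p (N ⊔ A : Subgroup Y) := hN.to_sup_of_normal_right' hA (hnorm hNA)
  have h2 : IsPGroup p ((N ⊔ A) ⊔ B : Subgroup Y) := by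
    refine h1.to_sup_of_normal_left' hB (hnorm fun g hg z hz => ?_)
    have h3 : N ⊔ A ≤ (N ⊔ A).comap (MulAut.conj g).toMonoidHom := by
      refine sup_le (fun y hy => ?_) fun y hy => ?_
      · exact Subgroup.mem_sup_left (hBN g hg y hy)
      · exact Subgroup.mem_sup_right (hBA g hg y hy)
    exact h3 hz
  have h3 : ((N ⊔ A) ⊔ B : Subgroup Y) = P := by
    refine P.is_maximal' h2 (hP.trans ?_)
    rw [sup_assoc]
    exact le_sup_right
  rw [← h3]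
  exact le_sup_left.trans le_sup_left

section abs

variable {F : Type*} [Field F] {σ : F →+* F} {G : Type u} [Group G] (S : Full σ G)

/-- conjugation by the rotation by 8 -/
theorem rot8_X {k : ℤ} {x : G} : S.rot ^ (4 : ℤ) * x * (S.rot ^ (4 : ℤ))⁻¹ ∈ S.XZ (k + 8) ↔ x ∈ S.XZ k := by
  have := S.rotk_X 4 k (x := x)
  rwa [show k + 2 * 4 = k + 8 by ring] at this

variable [Finite G]

theorem good_of (hopp : ∀ y ∈ J S.XZ (-7) 0, y ∈ J S.XZ 1 8 → y = 1)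
    (hinn : ∀ α : MulAut G, α * α = 1 → ∃ g, α = MulAut.conj g) {v : G} (hv2 : v * v = 1) {k : ℕ} (hk : Odd k)
    (hvk : (v * (S.rot ^ (4 : ℤ) * v * (S.rot ^ (4 : ℤ))⁻¹)) ^ k = 1) (i : ℤ)
    (hX : ∀ x ∈ S.XZ i, x * v = v * x) (hX' : ∀ x ∈ S.XZ (i + 8), x * v = v * x)
    (hle : ∀ N : Subgroup G, IsPGroup 2 N → (∀ z ∈ N, z * v = v * z) → (∀ g ∈ S.XZ i, ∀ z ∈ N, g * z * g⁻¹ ∈ N) →
      (∀ g ∈ S.XZ (i + 8), ∀ z ∈ N, g * z * g⁻¹ ∈ N) → N ≤ J S.XZ 1 8) : Good v := by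
  obtain ⟨r, hr⟩ : ∃ r : G, r = S.rot ^ (4 : ℤ) := ⟨_, rfl⟩
  have hrX : ∀ (k : ℤ) (x : G), r * x * r⁻¹ ∈ S.XZ (k + 8) ↔ x ∈ S.XZ k := by
    intro k x; rw [hr]; exact rot8_X S
  rw [← hr] at hvk
  obtain ⟨v', hv'⟩ : ∃ v', v' = r * v * r⁻¹ := ⟨_, rfl⟩
  rw [← hv'] at hvk
  have hv1 : v⁻¹ = v := inv_eq_of_mul_eq_one_right hv2
  have hv2' : v' * v' = 1 := by
    rw [hv']
    calc r * v * r⁻¹ * (r * v * r⁻¹) = r * (v * v) * r⁻¹ := by group
      _ = 1 := by rw [hv2]; group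
  have hv1' : v'⁻¹ = v' := inv_eq_of_mul_eq_one_right hv2'
  have key : ∀ x : G, r⁻¹ * x * r * v = v * (r⁻¹ * x * r) ↔ x * v' = v' * x := by
    intro x
    constructor
    · intro h
      rw [hv']
      calc x * (r * v * r⁻¹) = r * (r⁻¹ * x * r * v) * r⁻¹ := by group
        _ = r * (v * (r⁻¹ * x * r)) * r⁻¹ := by rw [h]
        _ = _ := by group
    · intro h
      rw [hv'] at h
      calc r⁻¹ * x * r * v = r⁻¹ * (x * (r * v * r⁻¹)) * r := by group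
        _ = r⁻¹ * (r * v * r⁻¹ * x) * r := by rw [h]
        _ = _ := by group
  have hrX' : ∀ (k : ℤ) (x : G), x ∈ S.XZ (k + 8) → r⁻¹ * x * r ∈ S.XZ k := by
    intro k x hx
    rw [← hrX]
    have : r * (r⁻¹ * x * r) * r⁻¹ = x := by group
    rwa [this]
  have hper : ∀ x, x ∈ S.XZ i ↔ x ∈ S.XZ (i + 8 + 8) := by
    intro x
    rw [show i + 8 + 8 = i + 2 * 8 by ring, S.zsys8.per]
  have hXv' : ∀ x ∈ S.XZ i, x * v' = v' * x := by
    intro x hx
    exact (key x).1 (hX' _ (hrX' _ _ ((hper x).1 hx)))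
  have hX'v' : ∀ x ∈ S.XZ (i + 8), x * v' = v' * x := by
    intro x hx
    exact (key x).1 (hX _ (hrX' _ _ hx))
  have hC : ∀ x, x * v = v * x → x * v' = v' * x →
      x ∈ (Subgroup.centralizer {v} ⊓ Subgroup.centralizer {v * v'} : Subgroup G) := by
    intro x h1 h2
    refine mem_cc.2 ⟨h1, ?_⟩
    rw [← mul_assoc, h1, mul_assoc, h2, mul_assoc]
  refine ⟨v * v', ?_, ?_, ?_, ?_⟩
  · exact hk.of_dvd_nat (orderOf_dvd_of_pow_eq_one hvk)
  · rw [mul_inv_rev, hv1, hv1', ← mul_assoc, hv2, one_mul]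
  · intro N hNp hNc hNn
    have hNv : ∀ z ∈ N, z * v = v * z ∧ z * v' = v' * z := by
      intro z hz
      obtain ⟨h1, h2⟩ := mem_cc.1 (hNc hz)
      refine ⟨h1, ?_⟩
      have h3 : v * (z * v') = v * (v' * z) := by
        calc v * (z * v') = (z * v) * v' := by rw [h1]; group
          _ = z * (v * v') := by group
          _ = (v * v') * z := h2
          _ = _ := by group
      exact mul_left_cancel h3
    have hn1 : ∀ g ∈ S.XZ i, ∀ z ∈ N, g * z * g⁻¹ ∈ N := fun g hg z hz => hNn g (hC g (hX g hg) (hXv' g hg)) z hz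
    have hn2 : ∀ g ∈ S.XZ (i + 8), ∀ z ∈ N, g * z * g⁻¹ ∈ N :=
      fun g hg z hz => hNn g (hC g (hX' g hg) (hX'v' g hg)) z hz
    have h1 := hle N hNp (fun z hz => (hNv z hz).1) hn1 hn2
    have h2 : N.map (MulAut.conj r⁻¹).toMonoidHom ≤ J S.XZ 1 8 := by
      have hconj : ∀ (g z : G), g * (r⁻¹ * z * r⁻¹⁻¹) * g⁻¹ = r⁻¹ * ((r * g * r⁻¹) * z * (r * g * r⁻¹)⁻¹) * r⁻¹⁻¹ := by
        intro g z; group
      refine hle _ (hNp.map _) ?_ ?_ ?_
      · rintro _ ⟨z, hz, rfl⟩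
        show r⁻¹ * z * r⁻¹⁻¹ * v = v * (r⁻¹ * z * r⁻¹⁻¹)
        rw [inv_inv]
        exact (key z).2 (hNv z hz).2
      · rintro g hg _ ⟨z, hz, rfl⟩
        refine ⟨(r * g * r⁻¹) * z * (r * g * r⁻¹)⁻¹, hn2 _ ((hrX i g).2 hg) z hz, ?_⟩
        exact (hconj g z).symm
      · rintro g hg _ ⟨z, hz, rfl⟩
        refine ⟨(r * g * r⁻¹) * z * (r * g * r⁻¹)⁻¹, hn1 _ ((hper _).2 ((hrX (i + 8) g).2 hg)) z hz, ?_⟩
        exact (hconj g z).symm
    rw [Subgroup.eq_bot_iff_forall]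
    intro z hz
    have h3 : r⁻¹ * z * r ∈ J S.XZ 1 8 := by
      have := h2 ⟨z, hz, rfl⟩
      have e : (MulAut.conj r⁻¹).toMonoidHom z = r⁻¹ * z * r := by
        show r⁻¹ * z * r⁻¹⁻¹ = _
        rw [inv_inv]
      rwa [e] at this
    have h4 : J S.XZ 1 8 ≤ (J S.XZ (-7) 0).comap (MulAut.conj r).toMonoidHom := by
      refine J_le fun j hj1 hj2 y hy => ?_
      have h5 := (hrX j y).2 hy
      have h6 : r * y * r⁻¹ ∈ S.XZ (j - 8) := by
        have := S.zsys8.per (j - 8)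
        rw [show j - 8 + 2 * 8 = j + 8 by ring] at this
        rw [← this]; exact h5
      exact mem_J h6 (by omega) (by omega)
    have h5 := h4 h3
    have e : (MulAut.conj r).toMonoidHom (r⁻¹ * z * r) = z := by
      show r * (r⁻¹ * z * r) * r⁻¹ = z
      group
    rw [Subgroup.mem_comap, e] at h5
    exact hopp z h5 (h1 hz)
  · intro α hα _ _ _
    exact hinn α hα

/-- the dihedral group of order 10 in a Suzuki group -/
theorem five {Y : Type*} [Group Y] {c d n : Y} (hc : c ^ 4 = 1) (hn : n * n = 1)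
    (hn1 : n = d ^ 2 * c⁻¹ * d) (h1 : n * c * n⁻¹ = d) : (c ^ 2 * d ^ 2) ^ 5 = 1 := by
  obtain ⟨τ, hτ⟩ : ∃ τ, τ = c⁻¹ * d := ⟨_, rfl⟩
  have hd' : d = c * τ := by rw [hτ]; group
  have hni : n⁻¹ = n := inv_eq_of_mul_eq_one_left hn
  -- `c⁻¹ τ c = τ ^ 2`
  have r1 : c⁻¹ * d * c = d * c⁻¹ * d := by
    have h2 : n * c = d * n := by rw [← h1]; group
    rw [hn1] at h2
    have h3 : d ^ 2 * (c⁻¹ * d * c) = d ^ 2 * (d * c⁻¹ * d) := by
      calc d ^ 2 * (c⁻¹ * d * c) = d ^ 2 * c⁻¹ * d * c := by group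
        _ = d * (d ^ 2 * c⁻¹ * d) := h2
        _ = _ := by rw [pow_two]; group
    exact mul_left_cancel h3
  have r2 : τ * c = c * τ ^ 2 := by
    rw [← hτ] at r1
    rw [r1, hd', pow_two]
    rw [hd'] at hτ
    group
  have r3 : ∀ k : ℕ, τ ^ k * c = c * τ ^ (2 * k) := by
    intro k
    induction k with
    | zero => simp
    | succ k ih =>
      calc τ ^ (k + 1) * c = τ ^ k * (τ * c) := by rw [pow_succ]; group
        _ = (τ ^ k * c) * τ ^ 2 := by rw [r2]; group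
        _ = c * (τ ^ (2 * k) * τ ^ 2) := by rw [ih]; group
        _ = _ := by rw [← pow_add]; ring_nf
  have r4 : τ ^ 15 = 1 := by
    have h2 : τ * c ^ 4 = c ^ 4 * τ ^ 16 := by
      have e4 : c ^ 4 = c * c * c * c := by rw [pow_succ, pow_succ, pow_two]
      rw [e4]
      calc τ * (c * c * c * c) = (τ ^ 1 * c) * (c * c * c) := by rw [pow_one]; simp only [mul_assoc]
        _ = c * ((τ ^ 2 * c) * (c * c)) := by rw [r3]; simp only [mul_assoc]
        _ = c * (c * ((τ ^ 4 * c) * c)) := by rw [r3]; simp only [mul_assoc]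
        _ = c * (c * (c * (τ ^ 8 * c))) := by rw [r3]; simp only [mul_assoc]
        _ = _ := by rw [r3]; simp only [mul_assoc]
    rw [hc, mul_one, one_mul] at h2
    have h3 : τ * 1 = τ * τ ^ 15 := by rw [mul_one, ← pow_succ']; exact h2
    exact (mul_left_cancel h3).symm
  have r5 : d ^ 2 = c ^ 2 * τ ^ 3 := by
    calc d ^ 2 = c * (τ ^ 1 * c) * τ := by rw [hd', pow_two, pow_one]; simp only [mul_assoc]
      _ = c * (c * τ ^ 2) * τ := by rw [r3]
      _ = _ := by rw [pow_two c, pow_succ τ 2]; simp only [mul_assoc]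
  have r6 : n = c ^ 2 * τ ^ 4 := by
    rw [hn1, mul_assoc, ← hτ, r5, pow_succ τ 3]; simp only [mul_assoc]
  have r7 : τ ^ 20 = 1 := by
    have h2 : n * n = c ^ 4 * τ ^ 20 := by
      have e4 : c ^ 4 = c * c * c * c := by rw [pow_succ, pow_succ, pow_two]
      rw [e4]
      calc n * n = c ^ 2 * ((τ ^ 4 * c) * (c * τ ^ 4)) := by rw [r6, pow_two]; simp only [mul_assoc]
        _ = c ^ 2 * (c * ((τ ^ 8 * c) * τ ^ 4)) := by rw [r3]; simp only [mul_assoc]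
        _ = c ^ 2 * (c * (c * (τ ^ 16 * τ ^ 4))) := by rw [r3]; simp only [mul_assoc]
        _ = _ := by rw [← pow_add, pow_two]; simp only [mul_assoc]
    rw [hn, hc, one_mul] at h2
    exact h2.symm
  have r8 : τ ^ 5 = 1 := by
    have h2 : τ ^ 20 = τ ^ 15 * τ ^ 5 := by rw [← pow_add]
    rw [r7, r4, one_mul] at h2
    exact h2.symm
  have r9 : c ^ 2 * d ^ 2 = τ ^ 3 := by
    rw [r5, ← mul_assoc, ← pow_add, hc, one_mul]
  rw [r9, ← pow_mul, mul_comm, pow_mul, r8, one_pow]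

omit [Finite G] in
theorem e_five : (S.e 0 0 1 * S.e 4 0 1) ^ 5 = 1 := by
  have h0 : S.e 0 1 0 ^ 2 = S.e 0 0 1 := by rw [pow_two, e_sq S, map_one, mul_one]
  have h4 : S.e 4 1 0 ^ 2 = S.e 4 0 1 := by rw [pow_two, e_sq S, map_one, mul_one]
  have h := five (c := S.e 0 1 0) (d := S.e 4 1 0) (n := S.n2) ?_ S.n2_sq ?_ ?_
  · rwa [h0, h4] at h
  · rw [show 4 = 2 * 2 by norm_num, pow_mul, h0, pow_two, z_sq S]
  · have h1 : S.e 0 1 1 = (S.e 0 1 0)⁻¹ := by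
      rw [e_inv S, map_one, mul_one, zero_add]
    rw [S.n2_word, h1, h4]
  · rw [S.n2_e, sub_zero]

omit [Finite G] in
theorem o_three : (S.o 0 1 * S.o 4 1) ^ 3 = 1 := by
  have h1 : S.n1 * S.o 0 1 * S.n1⁻¹ = S.o 4 1 := by rw [S.n1_o, sub_zero]
  have h2 := S.n1_sq
  have h3 : S.n1⁻¹ = S.n1 := inv_eq_of_mul_eq_one_left h2
  rw [h3, S.n1_word] at h1
  have h4 := o_sq S 0 1
  have h5 := o_sq S 4 1
  have e : (S.o 0 1 * S.o 4 1) ^ 3 =
      (S.o 0 1 * S.o 4 1 * S.o 0 1 * S.o 0 1 * (S.o 0 1 * S.o 4 1 * S.o 0 1)) * S.o 4 1 := by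
    have e1 : S.o 0 1 * S.o 4 1 * S.o 0 1 * S.o 0 1 * (S.o 0 1 * S.o 4 1 * S.o 0 1) =
        S.o 0 1 * S.o 4 1 * (S.o 0 1 * S.o 0 1) * (S.o 0 1 * S.o 4 1 * S.o 0 1) := by group
    rw [e1, h4, mul_one, pow_succ, pow_two]
    group
  rw [e, h1, h5]

/-- the involutions of `Z(X_4)` -/
theorem good_e [Finite F] (hF : ∃ c : Fˣ, c ≠ 1) (hR : S.R.p = 2)
    (hopp : ∀ y ∈ J S.XZ (-7) 0, y ∈ J S.XZ 1 8 → y = 1)
    (hinn : ∀ α : MulAut G, α * α = 1 → ∃ g, α = MulAut.conj g) : Good (S.e 2 0 1) := by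
  have hfact : Fact (Nat.Prime 2) := ⟨Nat.prime_two⟩
  have Z := S.zsys8
  obtain ⟨P, hP⟩ := SylU.exists_sylow S hF hR
  have hU2 : IsPGroup 2 (J S.XZ 1 8) := isPGroup_J Z (two_X S hR) 8 1 8 (by norm_num) (by norm_num)
  refine good_of S hopp hinn (z_sq S 2 1) (k := 5) (by decide) ?_ 0 ?_ ?_ ?_
  · have h1 := congrArg (S.ck 2) (e_five S)
    rw [map_pow, map_mul, S.ck_e, S.ck_e, map_one] at h1
    rw [S.rotk_e]
    have e1 : (0 : ZMod 8) + ((2 : ℤ) : ZMod 8) = 2 := by decide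
    have e2 : (4 : ZMod 8) + ((2 : ℤ) : ZMod 8) = 2 + ((4 : ℤ) : ZMod 8) := by decide
    rw [e1, e2] at h1
    exact h1
  · intro x hx
    exact S.comm_Z4 (k := 0) le_rfl (by norm_num) hx 1
  · intro x hx
    exact S.comm_Z4 (k := 0 + 8) (by norm_num) (by norm_num) hx 1
  · intro N hN hNc _ hn
    rw [← hP]
    have hN8 : N ≤ J S.XZ 0 8 := by
      intro z hz
      have h1 : z ∈ Subgroup.centralizer {S.e 2 0 1} := Subgroup.mem_centralizer_singleton_iff.2 (hNc z hz)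
      rw [S.centralizer_z (S.mem_Zc.2 ⟨1, rfl⟩) (fun h => one_ne_zero (S.e_eq_one h).2)] at h1
      exact h1
    refine le_sylow_of P (A := J S.XZ 1 7) (B := S.XZ 8) (hU2.to_le (J_mono le_rfl (by norm_num))) (two_X S hR 8) hN
      ?_ ?_ ?_ ?_
    · rw [hP]
      refine J_le fun k h1 h2 => ?_
      rcases (by omega : k ≤ 7 ∨ k = 8) with h3 | rfl
      · exact (X_le_J h1 h3).trans le_sup_left
      · exact le_sup_right
    · intro g hg z hz
      exact Z.conj_J (a := 1) (b := 7) (c := 0) (d := 8) (by norm_num) (by norm_num) (by norm_num) (hN8 hg) hz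
    · intro g hg z hz
      exact Z.conj_X (a := 1) (b := 7) (k := 8) (by norm_num) (by norm_num) (by norm_num) hg hz
    · intro g hg z hz
      exact hn g hg z hz

/-- the involutions of `X_5` -/
theorem good_o [Finite F] (hF : ∃ c : Fˣ, c ≠ 1) (hR : S.R.p = 2)
    (hopp : ∀ y ∈ J S.XZ (-7) 0, y ∈ J S.XZ 1 8 → y = 1)
    (hinn : ∀ α : MulAut G, α * α = 1 → ∃ g, α = MulAut.conj g) : Good (S.o 2 1) := by
  have hfact : Fact (Nat.Prime 2) := ⟨Nat.prime_two⟩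
  have Z := S.zsys8
  obtain ⟨P, hP⟩ := SylU.exists_sylow S hF hR
  have hU2 : IsPGroup 2 (J S.XZ 1 8) := isPGroup_J Z (two_X S hR) 8 1 8 (by norm_num) (by norm_num)
  have hLO : ∀ x ∈ S.LO, x * S.o 2 1 = S.o 2 1 * x := fun x hx => S.mem_centralizer_X5.1 (S.LO_le_cent hx) 1
  refine good_of S hopp hinn (o_sq S 2 1) (k := 3) (by decide) ?_ 1 ?_ ?_ ?_
  · have h1 := congrArg (S.ck 2) (o_three S)
    rw [map_pow, map_mul, S.ck_o, S.ck_o, map_one] at h1
    rw [S.rotk_o]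
    have e1 : (0 : ZMod 8) + ((2 : ℤ) : ZMod 8) = 2 := by decide
    have e2 : (4 : ZMod 8) + ((2 : ℤ) : ZMod 8) = 2 + ((4 : ℤ) : ZMod 8) := by decide
    rw [e1, e2] at h1
    exact h1
  · intro x hx
    exact hLO x (Subgroup.mem_sup_left hx)
  · intro x hx
    exact hLO x (Subgroup.mem_sup_right hx)
  · intro N hN hNc hn _
    rw [← hP]
    have hN8 : N ≤ J S.XZ 1 9 := by
      intro z hz
      have h1 : z ∈ Subgroup.centralizer {S.o 2 1} := Subgroup.mem_centralizer_singleton_iff.2 (hNc z hz)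
      rw [S.centralizer_o one_ne_zero] at h1
      have h2 : S.HO ≤ J S.XZ 1 9 := sup_le S.LO_le_J (le_trans inf_le_left (J_mono (by norm_num) (by norm_num)))
      exact h2 h1
    refine le_sylow_of P (A := J S.XZ 2 8) (B := S.XZ 1) (hU2.to_le (J_mono (by norm_num) le_rfl)) (two_X S hR 1) hN
      ?_ ?_ ?_ ?_
    · rw [hP]
      refine J_le fun k h1 h2 => ?_
      rcases (by omega : 2 ≤ k ∨ k = 1) with h3 | rfl
      · exact (X_le_J h3 h2).trans le_sup_left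
      · exact le_sup_right
    · intro g hg z hz
      exact Z.conj_J (a := 2) (b := 8) (c := 1) (d := 9) (by norm_num) (by norm_num) (by norm_num) (hN8 hg) hz
    · intro g hg z hz
      exact Z.conj_X (a := 2) (b := 8) (k := 1) (by norm_num) (by norm_num) (by norm_num) hg hz
    · intro g hg z hz
      exact hn g hg z hz

/-- **all involutions are good** -/
theorem good_all [Finite F] (hF : ∃ c : Fˣ, c ≠ 1) (hR : S.R.p = 2)
    (hopp : ∀ y ∈ J S.XZ (-7) 0, y ∈ J S.XZ 1 8 → y = 1)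
    (hinn : ∀ α : MulAut G, α * α = 1 → ∃ g, α = MulAut.conj g) {y : G} (hy1 : y ≠ 1) (hy2 : y * y = 1) :
    Good y := by
  rcases SylU.classes S hF hR hy2 hy1 with ⟨u, hu, h⟩ | ⟨u, hu, h⟩
  · have h1 : Cj y (S.e 2 0 1) := by
      refine (h.trans (S2184.torus_e S hu)).trans ?_
      have := H84.TwF4Two.e_cj (S := S) 0 2 (0 : F) 1
      push_cast at this
      exact this
    exact (good_e S hF hR hopp hinn).of_isConj (S2184.isConj_of_cj h1).symm
  · have h1 : Cj y (S.o 2 1) := by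
      refine (h.trans (S2184.torus_o S hu)).trans ?_
      have := H84.TwF4Two.o_cj (S := S) 0 2 (1 : F)
      push_cast at this
      exact this
    exact (good_o S hF hR hopp hinn).of_isConj (S2184.isConj_of_cj h1).symm

end abs

/-- involutory automorphisms are inner if `|Out|` is odd -/
theorem inner_of_odd {Y : Type u} [Group Y] [Finite Y] (ho : Odd (Nat.card (Out Y))) (α : MulAut Y)
    (hα : α * α = 1) : ∃ g, α = MulAut.conj g := by
  have : Finite (Out Y) := inferInstanceAs (Finite (MulAut Y ⧸ Inn Y))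
  have h1 : (QuotientGroup.mk' (Inn Y) α) ^ 2 = 1 := by rw [← map_pow, pow_two, hα, map_one]
  have h2 : orderOf (QuotientGroup.mk' (Inn Y) α) ∣ 2 := orderOf_dvd_of_pow_eq_one h1
  have h3 : orderOf (QuotientGroup.mk' (Inn Y) α) ∣ Nat.card (Out Y) := orderOf_dvd_natCard _
  have h4 := orderOf_eq_one_iff.1 (Nat.eq_one_of_dvd_coprimes ((Nat.coprime_two_left).2 ho) h2 h3)
  obtain ⟨g, hg⟩ : α ∈ Inn Y := (QuotientGroup.eq_one_iff _).1 h4
  exact ⟨g, hg.symm⟩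

open Cfsg.Lie Cfsg.Agent.KFacts.TwF4.Inst in
/-- **Every involution of `²F₄(q)`, `q ≥ 8`, is good.** -/
theorem good_twF4 {K : Type u} [Field K] [Fintype K] {m : ℕ} (hm : 1 ≤ m)
    (hK : Fintype.card K = 2 ^ (2 * m + 1)) {y : ↥(twistedF4 K (2 ^ m))} (hy1 : y ≠ 1) (hy2 : y * y = 1) :
    Good y := by
  classical
  have hchar := Cfsg.Agent.ChevalleyStructure.TwF4.Twisted.charP_two hK
  obtain ⟨φ, hφ⟩ := Cfsg.Agent.ChevalleyStructure.TwF4.TwistedFix.exists_rln hK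
  have hfin : Finite (GL chevF4.Idx K) := inferInstance
  have hF : ∃ c : Kˣ, c ≠ 1 := by
    have h1 : 1 < Fintype.card Kˣ := by
      rw [Fintype.card_units, hK]
      have : 2 ^ 3 ≤ 2 ^ (2 * m + 1) := Nat.pow_le_pow_right (by norm_num) (by omega)
      omega
    exact Fintype.exists_ne_of_one_lt_card h1 1
  exact good_all (full hK hφ) hF rfl (S2184.hL hK hφ)
    (inner_of_odd (by rw [S2128.result hm hK]; exact ⟨m, rfl⟩)) hy1 hy2

end Cfsg.Agent.H297.SK.TwFFour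

namespace Cfsg.Agent.H297.SK

open Cfsg.Agent.H282.SK

/-- **The row `²F₄(q)`, `q ≥ 8`.** -/
theorem twF4 : DeadS.{u} fun K _ => Cfsg.Lie.Iso2F4 K := by
  intro G _ _ V K h he
  obtain ⟨F, _, _, m, hm, hF, he⟩ := he
  classical
  have hchar := Cfsg.Agent.ChevalleyStructure.TwF4.Twisted.charP_two hF
  have hfin : Finite (GL Cfsg.Lie.chevF4.Idx F) := inferInstance
  exact dead_of_good (fun y h1 h2 => TwFFour.good_twF4 hm hF h1 h2) (outLe_2f4 hm hF) V K h he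

end Cfsg.Agent.H297.SK
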