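import Cfsg.Agent.H297.SK.TwE
import Cfsg.Agent.H897.SK6.Reps
import Cfsg.Agent.H282.SK.Out
import Cfsg.Agent.H731.SK.Rows
import Cfsg.Agent.H167.SK.Reps
import Cfsg.Agent.H737.SK.TwE6A
import Cfsg.Agent.H282.SK.TwE5
import Cfsg.Agent.H297.SK.TwE5C

/-!
# S3010: the row `²E₆(q)`, `q` even (helper297)
-/

set_option autoImplicit false
set_option linter.unusedSectionVars false
set_option linter.unusedVariables false

namespace Cfsg.Agent.H297.SK.TwE

open CoxeterSystem Cfsg.Agent.ChevalleyStructure.CoxeterGeom Cfsg.Agent.Tits.Roots Cfsg.Agent.Tits.Core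
  Cfsg.Agent.Nodes.Reps Cfsg.Agent.Nodes.BNOf Cfsg.Agent.Nodes.Coroot
open Cfsg.Lie Cfsg.Agent.ChevalleyStructure Cfsg.Agent.ChevalleyStructure.Elts Cfsg.Agent.ChevalleyStructure.NPerm
  Cfsg.Agent.ChevalleyStructure.CoxeterGeomTypes Cfsg.Agent.Nodes Cfsg.Agent.Nodes.RGDChev
  Cfsg.Agent.KFacts.ChevTwo Cfsg.Agent.KFacts.ChevTwoInst Cfsg.Agent.KFacts.RgdChevCoord
  Cfsg.Agent.KFacts.RgdCent Cfsg.Agent.H737.SK.Gen Cfsg.Agent.H297.SK.Dich Cfsg.Agent.H297.SK.DichE6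
  Cfsg.Agent.H297.SK.Tw Cfsg.Agent.H737.SK.O2 Cfsg.Agent.BpExc.EmbInst Cfsg.Agent.H282.SK
open Cfsg.Agent.H129.TwE6Fr (gam coe_gam flip6 flip_vec flip6_apply sg_one_sq sg_mem)
open Cfsg.Agent.ChevalleyStructure.TwE6Basic (sg rho)

universe u v

variable {K : Type u} [Field K] {q : ℕ}

theorem orthJ {J : List (Fin 6)} (hnd : J.Nodup)
    (h0 : ∀ i ∈ J, ∀ j ∈ J, i ≠ j → pairing (cartanOf chevE6 6) j (sr i) = 0) :
    Orth cs0 DichE6.hp.isCartan J where
  nodup := hnd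
  zero i hi j hj hij := by have := finW; rw [cpr_sr]; exact h0 i hi j hj hij

theorem gj1 : GJ K q [1] where
  orth := orthJ (by decide) (by decide +kernel)
  perm := by decide
  mem c hc := by
    rw [pr_cons, pr_cons, pr_nil, pr_nil, mul_one, mul_one]
    exact mem1 hc (Or.inl rfl)

theorem gj2 : GJ K q [0, 5] where
  orth := orthJ (by decide) (by decide +kernel)
  perm := by decide
  mem c hc := by
    rw [pr_cons, pr_cons, pr_cons, pr_cons, pr_nil, pr_nil, mul_one, mul_one]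
    have h1 := mem05 (q := q) c
    rw [hc] at h1
    refine ⟨?_, ?_⟩
    · convert h1.1
    · convert h1.2

theorem gj3 : GJ K q [1, 0, 5] where
  orth := orthJ (by decide) (by decide +kernel)
  perm := by decide
  mem c hc := by
    rw [pr_cons, pr_cons, pr_cons, pr_cons, pr_cons, pr_cons, pr_nil, pr_nil, mul_one, mul_one]
    have h1 := mem05 (q := q) c
    rw [hc] at h1
    have h2 := mem1 (q := q) hc (j := 1) (Or.inl rfl)
    refine ⟨mul_mem ?_ ?_, mul_mem ?_ ?_⟩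
    · convert h2.1
    · convert h1.1
    · convert h2.2
    · convert h1.2

variable [Fintype K] [CharP K 2] (hq : IsPrimePow q) (hK : Fintype.card K = q ^ 2)

/-- `J = [0, 5]`, `q = 2` -/
theorem exC (hq2 : q = 2) {ζ : K} (hζ : ζ ^ 2 = ζ + 1) : ∃ c₁ ∈ L0 K q, ∃ c₂ ∈ L0 K q,
    c₁ * pr [0, 5] (fun j => nel (eg DichE6.hp K) (sr j)) = pr [0, 5] (fun j => nel (eg DichE6.hp K) (sr j)) * c₁ ∧
    c₂ * pr [0, 5] (fun j => nel (eg DichE6.hp K) (sr j)) = pr [0, 5] (fun j => nel (eg DichE6.hp K) (sr j)) * c₂ ∧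
    (c₁ * (gam K c₁)⁻¹) * (c₂ * (gam K c₂)⁻¹) ≠ (c₂ * (gam K c₂)⁻¹) * (c₁ * (gam K c₁)⁻¹) := by
  have := finW
  have hg := (gj2 (K := K) (q := q)).k_mem
  have hh : ζ + ζ ^ q = 1 := by rw [hq2, hζ, ← add_assoc, CharTwo.add_self_eq_zero, zero_add]
  refine TwE5C.noncomm_05_tw (L := L0 K q) (S0 (K := K)) (gra_E6 cs0) (H737.SK.E6.tw_twE6 q) hh ?_
  convert hg

/-! ### field elements -/

include hK in
theorem two_dvd : 2 ∣ q := by
  obtain ⟨n, hn, h3⟩ := FiniteField.card K 2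
  have h4 : 2 ∣ q ^ 2 := by
    rw [← hK, h3]; exact dvd_pow_self 2 (PNat.ne_zero n)
  exact Nat.prime_two.dvd_of_dvd_pow h4

include hK in
/-- an element of odd prime order of `F_q` -/
theorem exists_c (hq : IsPrimePow q) (hq2 : q ≠ 2) :
    ∃ (l : ℕ) (c : K), l.Prime ∧ l ≠ 2 ∧ c ≠ 0 ∧ c ≠ 1 ∧ c ^ l = 1 ∧ c ^ q = c := by
  have h1 : 1 < q := hq.one_lt
  have h2 : q - 1 ≠ 1 := by omega
  obtain ⟨l, hl, hd⟩ := Nat.exists_prime_and_dvd h2
  have hev : 2 ∣ q := two_dvd hK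
  have hl2 : l ≠ 2 := by
    rintro rfl
    omega
  have : Fact l.Prime := ⟨hl⟩
  have hd2 : l ∣ Nat.card Kˣ := by
    rw [Nat.card_units, Nat.card_eq_fintype_card, hK]
    refine hd.trans ⟨q + 1, ?_⟩
    obtain ⟨m, rfl⟩ : ∃ m, q = m + 1 := ⟨q - 1, by omega⟩
    rw [Nat.add_sub_cancel]
    have h3 : (m + 1) ^ 2 = m * (m + 1 + 1) + 1 := by ring
    omega
  obtain ⟨x, hx⟩ := exists_prime_orderOf_dvd_card' l hd2
  have hxl : (x : K) ^ l = 1 := by
    rw [← Units.val_pow_eq_pow_val, ← hx, pow_orderOf_eq_one, Units.val_one]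
  refine ⟨l, (x : K), hl, hl2, x.ne_zero, ?_, hxl, ?_⟩
  · intro h0
    have h3 : x = 1 := Units.ext h0
    rw [h3, orderOf_one] at hx
    exact hl.one_lt.ne hx
  · obtain ⟨m, hm⟩ := hd
    have h3 : q = l * m + 1 := by omega
    rw [h3, pow_succ, pow_mul, hxl, one_pow, one_mul]

include hK in
theorem exists_zeta (hq2 : q = 2) : ∃ ζ : K, ζ ^ 2 = ζ + 1 := by
  classical
  have h4 : Fintype.card K = 4 := by rw [hK, hq2]; rfl
  obtain ⟨x, hx0, hx1⟩ : ∃ x : K, x ≠ 0 ∧ x ≠ 1 := by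
    by_contra hcon
    push Not at hcon
    have h5 : Fintype.card K ≤ 2 := by
      have h6 : (Finset.univ : Finset K) ⊆ {0, 1} := by
        intro x _
        by_cases h0 : x = 0
        · simp [h0]
        · simp [hcon x h0]
      calc Fintype.card K = (Finset.univ : Finset K).card := rfl
        _ ≤ ({0, 1} : Finset K).card := Finset.card_le_card h6
        _ ≤ 2 := Finset.card_le_two
    omega
  refine ⟨x, ?_⟩
  have h5 : x ^ 4 = x := by rw [← h4]; exact FiniteField.pow_card x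
  have h2K : (2 : K) = 0 := CharTwo.two_eq_zero
  have h6 : x * (x - 1) * (x ^ 2 + x + 1) = 0 := by linear_combination h5
  rcases mul_eq_zero.1 h6 with h7 | h7
  · rcases mul_eq_zero.1 h7 with h8 | h8
    · exact absurd h8 hx0
    · exact absurd (sub_eq_zero.1 h8) hx1
  · linear_combination h7 - (x + 1) * h2K

/-! ### the row -/

section

variable {H : Subgroup (MulAut ↥(twistedE6 K q))} {τ : MulAut ↥(twistedE6 K q)}

include hq hK in
/-- every representative kills -/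
theorem kill (hD : Dic K q H τ) (hZ : Subgroup.center ↥(twistedE6 K q) = ⊥)
    {G : Type v} [Group G] [Finite G] {V L : Subgroup G} (h : Cx V L) (e : L ≃* ↥(twistedE6 K q)) {w : G}
    (hw : w ∈ V) (hw1 : w ≠ 1) (hwL : w ∈ L) {J : List (Fin 6)}
    (hJ : J ∈ ([[1], [0, 5], [1, 0, 5]] : List (List (Fin 6))))
    (hv : io hq hK (e ⟨w, hwL⟩) = pr J fun j => nel (eg DichE6.hp K) (sr j)) : False := by
  have hgood : ∀ (J : List (Fin 6)), GJ K q J →
      (∃ z ∈ L0 K q, z * pr J (fun j => nel (eg DichE6.hp K) (sr j)) = pr J (fun j => nel (eg DichE6.hp K) (sr j)) * z ∧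
        (q ≠ 2 → ∀ c : K, c ≠ 0 → c ^ q = c → z * pr J (fun j => hel (eg DichE6.hp K) (sr j) c) =
          pr J (fun j => hel (eg DichE6.hp K) (sr j) c) * z) ∧
        (q = 2 → z * pr J (xl (eg DichE6.hp K)) = pr J (xl (eg DichE6.hp K)) * z) ∧ gam K z ≠ z) →
      (io hq hK (e ⟨w, hwL⟩) = pr J fun j => nel (eg DichE6.hp K) (sr j)) → False := by
    rintro J hJ ⟨z, hz, h1, h2, h3, h4⟩ hv
    apply h.not_good e hw hw1 hwL
    by_cases hq2 : q = 2
    · obtain ⟨ζ, hζ⟩ := exists_zeta hK hq2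
      obtain ⟨x, hx⟩ := exists_io hq hK hJ.xl_mem
      have P := pb_two hq hK hJ hD hq2 hζ hv hx
      exact good_of hq hK hD P hz (by rw [hv]; exact h1) (by rw [hx]; exact h3 hq2) h4 hZ
    · obtain ⟨l, c, hl, hl2, hc, hc1, hcl, hcq⟩ := exists_c hK hq hq2
      obtain ⟨x, hx⟩ := exists_io hq hK (hJ.hel_mem hcq)
      have P := pb_big hq hK hJ hD hl hl2 hc hc1 hcl hcq hv hx
      exact good_of hq hK hD P hz (by rw [hv]; exact h1) (by rw [hx]; exact h2 hq2 c hc hcq) h4 hZ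
  simp only [List.mem_cons, List.not_mem_nil, or_false] at hJ
  rcases hJ with rfl | rfl | rfl
  · obtain ⟨z, hz, h1, h2, h3, h4⟩ := H737.SK.E6.t5a hq hK
    exact hgood _ gj1 ⟨z, hz, h1.eq.symm, fun _ c _ _ => (h2 c).eq.symm, fun _ => h3.eq.symm, h4⟩ hv
  · by_cases hq2 : q = 2
    · obtain ⟨ζ, hζ⟩ := exists_zeta hK hq2
      obtain ⟨c₁, hc₁, c₂, hc₂, h1, h2, h3⟩ := exC hq2 hζ
      obtain ⟨x, hx⟩ := exists_io hq hK (gj2 (K := K) (q := q)).xl_mem
      have P := pb_two hq hK gj2 hD hq2 hζ hv hx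
      obtain ⟨y₁, rfl⟩ := exists_io hq hK hc₁
      obtain ⟨y₂, rfl⟩ := exists_io hq hK hc₂
      rw [← hv, ← map_mul, ← map_mul] at h1 h2
      refine P.false_of h e hwL hw hw1 (io_inj hq hK h1) (io_inj hq hK h2) fun h4 => h3 ?_
      have h5 := congrArg (io hq hK) h4
      simp only [map_mul, map_inv, hD.io hq hK] at h5
      exact h5
    · have hev : 2 ∣ q := two_dvd hK
      have h1q : 1 < q := hq.one_lt
      obtain ⟨z, hz, -, h1, h2, -, h3⟩ := H282.SK.TwE5.exists_B (K := K) (q := q) (by omega) hK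
      exact hgood _ gj2 ⟨z, hz, h1.eq, fun _ c hc _ => (h2 c hc).eq, fun h0 => absurd h0 hq2, h3⟩ hv
  · obtain ⟨z, hz, h1, h2, h3, h4⟩ := H737.SK.E6.t5d hq hK
    exact hgood _ gj3 ⟨z, hz, h1.eq.symm, fun _ c _ _ => (h2 c).eq.symm, fun _ => h3.eq.symm, h4⟩ hv

end

/-- the representatives are good lists -/
theorem gj_of {J : List (Fin 6)} (hJ : J ∈ ([[1], [0, 5], [1, 0, 5]] : List (List (Fin 6)))) : GJ K q J := by
  simp only [List.mem_cons, List.not_mem_nil, or_false] at hJ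
  rcases hJ with rfl | rfl | rfl
  · exact gj1
  · exact gj2
  · exact gj3

include hq hK in
/-- representatives of the involutions -/
theorem reps (y : ↥(twistedE6 K q)) (h1 : y ≠ 1) (h2 : y * y = 1) :
    ∃ J ∈ ([[1], [0, 5], [1, 0, 5]] : List (List (Fin 6))), ∃ g : ↥(twistedE6 K q),
      io hq hK (g * y * g⁻¹) = pr J fun j => nel (eg DichE6.hp K) (sr j) := by
  obtain ⟨J, hJ, z, e⟩ := H897.SK6.exists_simple hq hK y h1 h2
  have S := S0 (K := K)
  have hJ' := gj_of (K := K) (q := q) hJ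
  obtain ⟨k, hk⟩ := exists_io hq hK hJ'.k_mem
  refine ⟨J, hJ, k * z, ?_⟩
  have h3 : io hq hK (z * y * z⁻¹) = pr J fun j => eg DichE6.hp K (sr j) 1 := by
    apply Subtype.ext
    rw [coe_io, e]
    exact (H167.SK.Reps.coe_prod DichE6.hp J).symm
  have := finW
  rw [nJ_conj S hJ'.orth, ← hk, ← h3, ← map_mul, ← map_inv, ← map_mul]
  congr 1
  group

end Cfsg.Agent.H297.SK.TwE

namespace Cfsg.Agent.H297.SK.TwE

open Cfsg.Agent.ChevalleyStructure.TwE6Basic (sg rho)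
open Cfsg.Lie Cfsg.Agent.H282.SK Cfsg.Agent.H737.SK.Gen Cfsg.Agent.Nodes.BNOf Cfsg.Agent.KFacts.ChevTwo
  Cfsg.Agent.KFacts.ChevTwoInst Cfsg.Agent.Tits.Core

universe u

/-- **The row `²E₆(q)`, `q` even** -/
theorem dead : DeadS.{u} fun K _ => Cfsg.Agent.H731.SK.TwESixEven K := by
  rintro G _ _ V L h ⟨F, iF, iT, iC, q, hq, hF, ⟨e⟩⟩
  have hout : OutLe ↥(twistedE6 F q) := by
    obtain ⟨p, f, hp', hc, hf, rfl, hF'⟩ := H565.CopTw.exists_params hq hF (by norm_num)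
    have : Fact p.Prime := ⟨hp'⟩
    exact outLe_2e6 p f hF' hf
  obtain ⟨w, hw, hw1, hwL⟩ := h.exists_mem_inf e hout
  have h1 : e ⟨w, hwL⟩ ≠ 1 := by
    intro h1
    apply hw1
    have : (⟨w, hwL⟩ : L) = 1 := e.injective (by rw [h1, map_one])
    exact congrArg Subtype.val this
  have h2 : e ⟨w, hwL⟩ * e ⟨w, hwL⟩ = 1 := by
    rw [← map_mul]
    have : (⟨w, hwL⟩ : L) * ⟨w, hwL⟩ = 1 := Subtype.ext (h.sq hw)
    rw [this, map_one]
  obtain ⟨J, hJ, g, eJ⟩ := reps hq hF (e ⟨w, hwL⟩) h1 h2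
  obtain ⟨e', he'⟩ : ∃ e' : L ≃* ↥(twistedE6 F q), e' = e.trans (MulAut.conj g) := ⟨_, rfl⟩
  have hv : e' ⟨w, hwL⟩ = g * e ⟨w, hwL⟩ * g⁻¹ := by rw [he']; rfl
  obtain ⟨H, τ, k1, k2, k3, k4, k5⟩ := H897.SK6.exists_tau (K := F) hq hF
  have hZ : Subgroup.center ↥(twistedE6 F q) = ⊥ := by
    rw [eq_bot_iff]
    intro z hz
    rw [Subgroup.mem_bot]
    obtain ⟨k, rfl⟩ := e.surjective z
    have h2 : (k : G) = 1 := by
      apply h.eq_one_of_comm
      intro y hy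
      have h3 := ((Subgroup.mem_center_iff.1 hz) (e ⟨y, hy⟩)).symm
      rw [← map_mul, ← map_mul] at h3
      exact congrArg Subtype.val (e.injective h3)
    have h4 : k = 1 := Subtype.ext h2
    rw [h4, map_one]
  exact kill hq hF ⟨k1, k2, k3, k4, k5⟩ hZ h e' hw hw1 hwL hJ (by rw [hv, eJ])

end Cfsg.Agent.H297.SK.TwE
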